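import Mathlib.LinearAlgebra.ExteriorPower.Basis
import Mathlib.LinearAlgebra.Alternating.Uncurry.Fin
import Mathlib.Data.Fin.Tuple.Sort
import Mathlib.Algebra.Module.Submodule.Map
import Mathlib.LinearAlgebra.StdBasis

/-!
Koszul cochains as alternating maps on `S^n`: values on increasing tuples of basis vectors,
the differential `curryLeft x`, and the homotopy identity.
-/

namespace Groth.Agent.GrLib8.LinSyz

open Function

universe u v

variable {S : Type u} [CommRing S] {n : ℕ} {M : Type v} [AddCommGroup M] [Module S M]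

/-- Alternating forms on `S^n` of degree `q`. -/
abbrev Kos (S : Type u) [CommRing S] (n q : ℕ) (M : Type v) [AddCommGroup M] [Module S M] :
    Type (max u v) :=
  (Fin n → S) [⋀^Fin q]→ₗ[S] M

/-- The basis tuple of a tuple of indices. -/
def ev {q : ℕ} (a : Fin q → Fin n) : Fin q → (Fin n → S) := fun i => Pi.single (a i) 1

lemma ev_eq_basis {q : ℕ} (a : Fin q → Fin n) :
    (ev a : Fin q → (Fin n → S)) = fun i => Pi.basisFun S (Fin n) (a i) := by
  funext i
  rw [Pi.basisFun_apply, ev]

lemma ev_vecCons {q : ℕ} (v : Fin n) (a : Fin q → Fin n) :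
    (ev (Matrix.vecCons v a) : Fin (q + 1) → (Fin n → S)) =
      Matrix.vecCons (Pi.single v 1) (ev a) := by
  funext i
  refine Fin.cases ?_ (fun j => ?_) i <;> simp [ev, Matrix.vecCons]

lemma apply_not_injective {q : ℕ} (c : Kos S n q M) {a : Fin q → Fin n} (ha : ¬ Injective a) :
    c (ev a) = 0 := by
  obtain ⟨i, j, hij, hne⟩ := not_injective_iff.1 ha
  exact c.map_eq_zero_of_eq _ (by simp [ev, hij]) hne

lemma apply_sort {q : ℕ} (c : Kos S n q M) (a : Fin q → Fin n) :
    c (ev a) = Equiv.Perm.sign (Tuple.sort a) • c (ev (a ∘ Tuple.sort a)) := by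
  rw [show (ev (a ∘ Tuple.sort a) : Fin q → (Fin n → S)) = ev a ∘ Tuple.sort a from rfl,
    AlternatingMap.map_perm, smul_smul, Int.units_mul_self, one_smul]

lemma strictMono_sort {q : ℕ} {a : Fin q → Fin n} (ha : Injective a) :
    StrictMono (a ∘ Tuple.sort a) :=
  (Tuple.monotone_sort a).strictMono_of_injective (ha.comp (Equiv.injective _))

lemma mem_of_sorted {q : ℕ} (c : Kos S n q M) (P : AddSubgroup M)
    (h : ∀ a : Fin q → Fin n, StrictMono a → c (ev a) ∈ P) (a : Fin q → Fin n) : c (ev a) ∈ P := by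
  by_cases ha : Injective a
  · rw [apply_sort, Units.smul_def]
    exact P.zsmul_mem (h _ (strictMono_sort ha)) _
  · rw [apply_not_injective c ha]
    exact P.zero_mem

lemma ext_sorted {q : ℕ} {c c' : Kos S n q M}
    (h : ∀ a : Fin q → Fin n, StrictMono a → c (ev a) = c' (ev a)) : c = c' := by
  refine Module.Basis.ext_alternating (Pi.basisFun S (Fin n)) fun a ha => ?_
  rw [← ev_eq_basis, apply_sort c, apply_sort c', h _ (strictMono_sort ha)]

lemma mem_submodule_of_sorted {q : ℕ} (c : Kos S n q M) (P : Submodule S M)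
    (h : ∀ a : Fin q → Fin n, StrictMono a → c (ev a) ∈ P) (y : Fin q → (Fin n → S)) : c y ∈ P := by
  have : (P.mkQ).compAlternatingMap c = 0 :=
    ext_sorted fun a ha => by simpa using h a ha
  have := AlternatingMap.congr_fun this y
  simpa using this

/-- An alternating form with prescribed values on increasing tuples. -/
theorem exists_of_sorted (q : ℕ) (f : (Fin q → Fin n) → M) :
    ∃ c : Kos S n q M, ∀ a, StrictMono a → c (ev a) = f a := by
  classical
  let B := (Pi.basisFun S (Fin n)).exteriorPower q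
  let L : (⋀[S]^q (Fin n → S)) →ₗ[S] M :=
    B.constr ℕ fun s => f (Set.powersetCard.ofFinEmbEquiv.symm s)
  refine ⟨L.compAlternatingMap (exteriorPower.ιMulti S q), fun a ha => ?_⟩
  let s : Set.powersetCard (Fin n) q :=
    Set.powersetCard.ofFinEmbEquiv (OrderEmbedding.ofStrictMono a ha)
  have hs : (Set.powersetCard.ofFinEmbEquiv.symm s : Fin q → Fin n) = a := by
    simp [s]
  have hB : B s = exteriorPower.ιMulti S q (ev a) := by
    rw [exteriorPower.basis_apply, exteriorPower.ιMulti_family, ev_eq_basis, hs]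
    rfl
  show L (exteriorPower.ιMulti S q (ev a)) = f a
  rw [← hB, Module.Basis.constr_basis, hs]

/-- Lifting along a map whose range contains all values. -/
theorem exists_lift {N : Type*} [AddCommGroup N] [Module S N] {q : ℕ} (π : N →ₗ[S] M)
    (c : Kos S n q M) (h : ∀ a : Fin q → Fin n, c (ev a) ∈ LinearMap.range π) :
    ∃ c' : Kos S n q N, π.compAlternatingMap c' = c := by
  choose f hf using h
  obtain ⟨c', hc'⟩ := exists_of_sorted (S := S) q f
  exact ⟨c', ext_sorted fun a ha => by simp [hc' a ha, hf a]⟩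

lemma sum_apply {ι : Type*} {q : ℕ} (s : Finset ι) (c : ι → Kos S n q M) (y : Fin q → (Fin n → S)) :
    (∑ i ∈ s, c i) y = ∑ i ∈ s, c i y := by
  classical
  induction s using Finset.induction with
  | empty => rfl
  | insert a s ha ih => rw [Finset.sum_insert ha, Finset.sum_insert ha, AlternatingMap.add_apply, ih]

variable (x : Fin n → S)

/-- The Koszul differential. -/
def bd {q : ℕ} (c : Kos S n (q + 1) M) : Kos S n q M := c.curryLeft x

lemma bd_apply {q : ℕ} (c : Kos S n (q + 1) M) (y : Fin q → (Fin n → S)) :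
    bd x c y = c (Matrix.vecCons x y) := rfl

lemma bd_bd {q : ℕ} (c : Kos S n (q + 2) M) : bd x (bd x c) = 0 :=
  AlternatingMap.curryLeft_same c x

lemma bd_sub {q : ℕ} (c c' : Kos S n (q + 1) M) : bd x (c - c') = bd x c - bd x c' :=
  AlternatingMap.ext fun _ => rfl

lemma bd_comp {N : Type*} [AddCommGroup N] [Module S N] {q : ℕ} (φ : M →ₗ[S] N)
    (c : Kos S n (q + 1) M) : bd x (φ.compAlternatingMap c) = φ.compAlternatingMap (bd x c) :=
  AlternatingMap.ext fun _ => rfl

lemma bd_apply_eq_sum {q : ℕ} (c : Kos S n (q + 1) M) (y : Fin q → (Fin n → S)) :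
    bd x c y = ∑ v, x v • c (Matrix.vecCons (Pi.single v 1) y) := by
  have hx : x = ∑ v, x v • (Pi.single v 1 : Fin n → S) := by
    funext i
    simp [Finset.sum_apply, Pi.single_apply]
  let L : (Fin n → S) →ₗ[S] M :=
    { toFun := fun m => c.curryLeft m y
      map_add' := fun a b => by rw [map_add, AlternatingMap.add_apply]
      map_smul' := fun r a => by rw [map_smul, AlternatingMap.smul_apply, RingHom.id_apply] }
  show L x = _
  conv_lhs => rw [hx]
  rw [map_sum]
  simp only [map_smul]
  rfl

lemma bd_apply_ev {q : ℕ} (c : Kos S n (q + 1) M) (a : Fin q → Fin n) :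
    bd x c (ev a) = ∑ v, x v • c (ev (Matrix.vecCons v a)) := by
  rw [bd_apply_eq_sum]
  simp only [ev_vecCons]

/-- `y ↦ ∑ y_v h_v`. -/
noncomputable def combine {q : ℕ} (h : Fin n → Kos S n q M) : (Fin n → S) →ₗ[S] Kos S n q M :=
  Fintype.linearCombination S h

lemma combine_single {q : ℕ} (h : Fin n → Kos S n q M) (v : Fin n) :
    combine h (Pi.single v 1) = h v := by
  rw [combine, Fintype.linearCombination_apply_single, one_smul]

/-- Wedge with cycles: the boundary of `∑ e_v ∧ h_v` is `∑ x_v h_v`. -/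
theorem bd_uncurry {q : ℕ} (h : Fin n → Kos S n q M)
    (hcyc : ∀ q' : ℕ, ∀ e : q = q' + 1, ∀ v, bd x (e ▸ h v) = 0) :
    bd x (AlternatingMap.alternatizeUncurryFin (combine h)) = ∑ v, x v • h v := by
  refine AlternatingMap.ext fun y => ?_
  rw [bd_apply, AlternatingMap.alternatizeUncurryFin_apply, Fin.sum_univ_succ]
  have h0 : Fin.removeNth 0 (Matrix.vecCons x y) = y := rfl
  rw [Fin.val_zero, pow_zero, one_smul, h0, Matrix.cons_val_zero, combine,
    Fintype.linearCombination_apply]
  refine add_eq_left.2 (Finset.sum_eq_zero fun t _ => ?_)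
  rcases Nat.exists_eq_succ_of_ne_zero (show q ≠ 0 from fun e => (Fin.cast e t).elim0) with ⟨q', rfl⟩
  have hr : Fin.removeNth t.succ (Matrix.vecCons x y) =
      Matrix.vecCons x (Fin.removeNth t y) := by
    funext i
    refine Fin.cases ?_ (fun j => ?_) i
    · simp [Fin.removeNth, Fin.succAbove_of_castSucc_lt, Matrix.vecCons]
    · simp [Fin.removeNth, Matrix.vecCons]
  rw [hr, ← bd_apply]
  simp only [Matrix.cons_val_succ]
  rw [bd]
  have hc : ∀ v, AlternatingMap.curryLeft (h v) x = 0 := hcyc q' rfl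
  let L : Kos S n (q' + 1) M →ₗ[S] Kos S n q' M :=
    { toFun := fun g => g.curryLeft x
      map_add' := fun _ _ => AlternatingMap.ext fun _ => rfl
      map_smul' := fun _ _ => AlternatingMap.ext fun _ => rfl }
  have : L (Fintype.linearCombination S h (y t)) = 0 := by
    rw [Fintype.linearCombination_apply, map_sum]
    exact Finset.sum_eq_zero fun v _ => by rw [map_smul, show L (h v) = 0 from hc v, smul_zero]
  rw [show AlternatingMap.curryLeft (Fintype.linearCombination S h (y t)) x = 0 from this]
  simp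

end Groth.Agent.GrLib8.LinSyz
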