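import Groth.Agent.GrLib8.LinSyz.Alt
import Groth.Agent.GrLib8.HilbertFn
import Groth.Prelude.Def_GrSyz
import Mathlib.RingTheory.MvPolynomial.WeightedHomogeneous

/-!
The Koszul complex of the variables of a polynomial ring: an explicit homogeneous contraction.
-/

namespace Groth.Agent.GrLib8.LinSyz

open MvPolynomial Function

universe u

variable {k : Type u} [CommRing k] {n : ℕ}

local notation "P" => MvPolynomial (Fin n) k

/-- The variables. -/
noncomputable def xs : Fin n → P := fun v => X v

/-- Drop the monomials involving a variable before `b`. -/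
noncomputable def keep (b : ℕ) : P →ₗ[k] P where
  toFun f := AddMonoidAlgebra.ofCoeff ((AddMonoidAlgebra.coeff f).filter fun d : Fin n →₀ ℕ => ∀ i : Fin n, (i : ℕ) < b → d i = 0)
  map_add' f g := by simp [Finsupp.filter_add]
  map_smul' c f := by simp [Finsupp.filter_smul]

lemma coeff_keep (b : ℕ) (f : P) (d : Fin n →₀ ℕ) [Decidable (∀ i : Fin n, (i : ℕ) < b → d i = 0)] :
    coeff d (keep b f) = if ∀ i : Fin n, (i : ℕ) < b → d i = 0 then coeff d f else 0 := by
  classical
  show (AddMonoidAlgebra.coeff f).filter _ d = _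
  rw [Finsupp.filter_apply]
  congr

/-- Divide by `x_v` after dropping the monomials involving an earlier variable. -/
noncomputable def psi (v : Fin n) : P →ₗ[k] P where
  toFun f := AddMonoidAlgebra.ofCoeff
    (((AddMonoidAlgebra.coeff f).comapDomain (fun d => d + Finsupp.single v 1)
      ((add_left_injective _).injOn)).filter fun d : Fin n →₀ ℕ => ∀ i, i < v → d i = 0)
  map_add' f g := by
    ext d
    classical
    simp [Finsupp.filter_apply, MvPolynomial.coeff, Finsupp.comapDomain_apply]
    split_ifs <;> simp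
  map_smul' c f := by
    ext d
    classical
    simp [Finsupp.filter_apply, MvPolynomial.coeff, Finsupp.comapDomain_apply]

lemma coeff_psi (v : Fin n) (f : P) (d : Fin n →₀ ℕ) [Decidable (∀ i : Fin n, i < v → d i = 0)] :
    coeff d (psi v f) = if ∀ i : Fin n, i < v → d i = 0 then coeff (d + Finsupp.single v 1) f else 0 := by
  classical
  show ((AddMonoidAlgebra.coeff f).comapDomain _ _).filter _ d = _
  rw [Finsupp.filter_apply, Finsupp.comapDomain_apply]
  congr

lemma psi_X_mul_self (v : Fin n) (f : P) : psi v (X v * f) = keep v f := by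
  classical
  ext d
  rw [coeff_psi, coeff_keep, coeff_X_mul']
  have h1 : v ∈ (d + Finsupp.single v 1).support := by simp
  rw [if_pos h1, add_tsub_cancel_right]
  congr 1

lemma psi_X_mul_of_lt (v w : Fin n) (h : w < v) (f : P) : psi v (X w * f) = 0 := by
  classical
  ext d
  rw [coeff_psi, coeff_zero]
  split_ifs with hd
  · rw [coeff_X_mul', if_neg]
    simp [hd w h, Finsupp.single_apply, h.ne']
  · rfl

lemma psi_X_mul_of_gt (v w : Fin n) (h : v < w) (f : P) : psi v (X w * f) = X w * psi v f := by
  classical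
  ext d
  rw [coeff_psi, coeff_X_mul', coeff_X_mul', coeff_psi]
  have hsupp : w ∈ (d + Finsupp.single v 1).support ↔ w ∈ d.support := by
    simp [Finsupp.single_apply, h.ne]
  by_cases hw : w ∈ d.support
  · rw [if_pos (hsupp.2 hw), if_pos hw]
    have hcond : (∀ i, i < v → (d - Finsupp.single w 1 : Fin n →₀ ℕ) i = 0) ↔ ∀ i, i < v → d i = 0 :=
      forall₂_congr fun i hi => by simp [Finsupp.single_apply, (hi.trans h).ne']
    have heq : d + Finsupp.single v 1 - Finsupp.single w 1 =
        d - Finsupp.single w 1 + Finsupp.single v 1 := by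
      ext i
      have h1 : 1 ≤ d w := Nat.one_le_iff_ne_zero.2 (Finsupp.mem_support_iff.1 hw)
      simp only [Finsupp.tsub_apply, Finsupp.add_apply, Finsupp.single_apply]
      split_ifs with a b <;> first | omega | (subst a; subst b; exact absurd h (lt_irrefl _)) | (subst_vars; omega)
    simp only [hcond, heq]
  · rw [if_neg (fun h' => hw (hsupp.1 h')), if_neg hw]
    simp

lemma sum_psi (b : ℕ) (hb : b ≤ n) (f : P) :
    (∑ v : Fin n, if (v : ℕ) < b then X v * psi v f else 0) + keep b f = f := by
  classical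
  ext d
  rw [coeff_add, coeff_sum, coeff_keep]
  by_cases hd : ∀ i : Fin n, (i : ℕ) < b → d i = 0
  · rw [if_pos hd, Finset.sum_eq_zero, zero_add]
    intro v _
    split_ifs with hv
    · rw [coeff_X_mul', if_neg]
      simp [hd v hv]
    · rw [coeff_zero]
  · rw [if_neg hd, add_zero]
    push_neg at hd
    obtain ⟨i, hi, hdi⟩ := hd
    have hne : d.support.Nonempty := ⟨i, Finsupp.mem_support_iff.2 hdi⟩
    let m := d.support.min' hne
    have hm : m ∈ d.support := Finset.min'_mem _ hne
    have hmb : (m : ℕ) < b :=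
      lt_of_le_of_lt (Fin.le_def.1 (Finset.min'_le _ i (Finsupp.mem_support_iff.2 hdi))) hi
    have hm1 : 1 ≤ d m := Nat.one_le_iff_ne_zero.2 (Finsupp.mem_support_iff.1 hm)
    rw [Finset.sum_eq_single m]
    · rw [if_pos hmb, coeff_X_mul', if_pos hm, coeff_psi, if_pos, tsub_add_cancel_of_le]
      · exact Finsupp.single_le_iff.2 hm1
      · intro j hj
        have : d j = 0 := by
          by_contra hj0
          exact absurd (Finset.min'_le _ j (Finsupp.mem_support_iff.2 hj0)) (not_le.2 hj)
        simp [this]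
    · intro v _ hv
      split_ifs with hvb
      · rw [coeff_X_mul']
        split_ifs with hvs
        · rw [coeff_psi, if_neg]
          intro hall
          have hlt : m < v := lt_of_le_of_ne (Finset.min'_le _ v hvs) (Ne.symm hv)
          have := hall m hlt
          simp [Finsupp.single_apply, hlt.ne'] at this
          omega
        · rfl
      · rw [coeff_zero]
    · intro h
      exact absurd (Finset.mem_univ _) h

lemma keep_top (f : P) : keep n f = C (constantCoeff f) := by
  classical
  ext d
  rw [coeff_keep, coeff_C]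
  by_cases h : d = 0
  · subst h
    simp [constantCoeff_eq]
  · rw [if_neg (fun hh => h (Finsupp.ext fun i => hh i i.2)), if_neg (Ne.symm h)]

lemma sum_X_psi (f : P) : ∑ v : Fin n, X v * psi v f = f - C (constantCoeff f) := by
  have := sum_psi n le_rfl f
  simp only [Fin.is_lt, if_true, keep_top] at this
  exact eq_sub_of_add_eq this

lemma stdGr_mem_iff {f : P} {d : ℤ} :
    f ∈ GrSyz.stdGr k (Fin n) d ↔ ∀ c, coeff c f ≠ 0 → ((Finsupp.degree c : ℕ) : ℤ) = d := by
  rw [GrSyz.stdGr, mem_weightedHomogeneousSubmodule]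
  have hw : ∀ c : Fin n →₀ ℕ, Finsupp.weight (fun _ => (1 : ℤ)) c = ((Finsupp.degree c : ℕ) : ℤ) := by
    intro c
    simp [Finsupp.weight_apply, Finsupp.degree_apply, Finsupp.sum]
  constructor
  · intro h c hc
    rw [← hw]
    exact h hc
  · intro h c hc
    rw [hw]
    exact h c hc

lemma X_mem (v : Fin n) : (X v : P) ∈ GrSyz.stdGr k (Fin n) 1 := by
  classical
  rw [stdGr_mem_iff]
  intro c hc
  rw [coeff_X] at hc
  split_ifs at hc with h
  · subst h; simp
  · exact absurd rfl hc

lemma psi_mem {f : P} {d : ℤ} (v : Fin n) (hf : f ∈ GrSyz.stdGr k (Fin n) d) :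
    psi v f ∈ GrSyz.stdGr k (Fin n) (d - 1) := by
  classical
  rw [stdGr_mem_iff] at hf ⊢
  intro c hc
  rw [coeff_psi] at hc
  split_ifs at hc with h
  · have := hf _ hc
    rw [map_add, Finsupp.degree_single] at this
    push_cast at this
    omega
  · exact absurd rfl hc

lemma units_smul_psi (v : Fin n) (s : ℤˣ) (f : P) : psi v (s • f) = s • psi v f := by
  simp only [Units.smul_def, map_zsmul]

/-- `ψ_v` applied to the values on tuples lying after `v`. -/
lemma exists_shift {q : ℕ} (c : Kos P n q P) (v : Fin n) :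
    ∃ h : Kos P n q P, ∀ a : Fin q → Fin n,
      h (ev a) = if ∀ s, v < a s then psi v (c (ev a)) else 0 := by
  classical
  obtain ⟨h, hh⟩ := exists_of_sorted (S := P) q fun a =>
    if ∀ s, v < a s then psi v (c (ev a)) else 0
  refine ⟨h, fun a => ?_⟩
  by_cases ha : Injective a
  · rw [apply_sort h a, hh _ (strictMono_sort ha), apply_sort c a, units_smul_psi]
    have : (∀ s, v < (a ∘ Tuple.sort a) s) ↔ ∀ s, v < a s :=
      ⟨fun H s => by simpa using H ((Tuple.sort a).symm s), fun H s => H _⟩
    simp only [this]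
    split_ifs
    · rfl
    · rw [Units.smul_def, smul_zero]
  · rw [apply_not_injective h ha, apply_not_injective c ha, map_zero, ite_self]

/-- The Koszul complex of the variables is exact in positive degrees, homogeneously. -/
theorem exists_bd_eq_scalar {q : ℕ} (c : Kos P n (q + 1) P) (hc : bd xs c = 0) :
    ∃ u : Kos P n (q + 2) P, bd xs u = c ∧ ∀ d : ℤ,
      (∀ a, c (ev a) ∈ GrSyz.stdGr k (Fin n) d) → ∀ a, u (ev a) ∈ GrSyz.stdGr k (Fin n) (d - 1) := by
  classical
  choose H hH using exists_shift (k := k) c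
  refine ⟨AlternatingMap.alternatizeUncurryFin (combine H), ?_, ?_⟩
  swap
  · intro d hd a
    rw [AlternatingMap.alternatizeUncurryFin_apply]
    refine Submodule.sum_mem _ fun t _ => zsmul_mem ?_ _
    rw [show Fin.removeNth t (ev a : Fin (q + 2) → Fin n → P) = ev (Fin.removeNth t a) from rfl,
      show (ev a : Fin (q + 2) → Fin n → P) t = Pi.single (a t) 1 from rfl, combine_single, hH]
    split_ifs
    · exact psi_mem _ (hd _)
    · exact Submodule.zero_mem _
  refine ext_sorted fun a ha => ?_
  rw [bd_apply_ev]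
  have hterm : ∀ v, AlternatingMap.alternatizeUncurryFin (combine H) (ev (Matrix.vecCons v a)) =
      (if v < a 0 then psi v (c (ev a)) else 0) -
        (if a 0 < v then psi (a 0) (c (ev (Matrix.vecCons v (Fin.removeNth 0 a)))) else 0) := by
    intro v
    rw [AlternatingMap.alternatizeUncurryFin_apply, Fin.sum_univ_succ]
    have e0 : Fin.removeNth 0 (ev (Matrix.vecCons v a)) = (ev a : Fin (q + 1) → Fin n → P) := rfl
    have e0' : (ev (Matrix.vecCons v a) : Fin (q + 2) → Fin n → P) 0 = Pi.single v 1 := rfl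
    rw [Fin.val_zero, pow_zero, one_smul, e0, e0', combine_single, hH, sub_eq_add_neg]
    congr 1
    · refine if_congr ⟨fun h => h 0, fun h s => ?_⟩ rfl rfl
      exact lt_of_lt_of_le h (ha.monotone (Fin.zero_le s))
    have hr : ∀ t : Fin (q + 1), Fin.removeNth t.succ (Matrix.vecCons v a) =
        Matrix.vecCons v (Fin.removeNth t a) := by
      intro t
      funext i
      refine Fin.cases ?_ (fun j => ?_) i <;> simp [Fin.removeNth, Matrix.vecCons]
    have e1 : ∀ t : Fin (q + 1), Fin.removeNth t.succ (ev (Matrix.vecCons v a)) =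
        (ev (Matrix.vecCons v (Fin.removeNth t a)) : Fin (q + 1) → Fin n → P) := by
      intro t
      rw [← hr t]
      rfl
    have e2 : ∀ t : Fin (q + 1), (ev (Matrix.vecCons v a) : Fin (q + 2) → Fin n → P) t.succ =
        Pi.single (a t) 1 := fun t => by simp [ev]
    simp only [e1, e2, combine_single, hH]
    rw [Fin.sum_univ_succ, Finset.sum_eq_zero (fun t _ => ?_), add_zero]
    · simp only [Fin.val_succ, Fin.val_zero, zero_add, pow_one, neg_smul, one_smul]
      congr 1
      refine if_congr ⟨fun h => by simpa using h 0, fun h s => ?_⟩ rfl rfl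
      refine Fin.cases ?_ (fun j => ?_) s
      · simpa using h
      · simp only [Matrix.cons_val_succ]
        exact ha (Fin.succ_pos j)
    · rw [if_neg, smul_zero]
      intro h
      have h1 := h (Fin.succ ⟨0, t.pos⟩)
      simp only [Matrix.cons_val_succ, Fin.removeNth] at h1
      rw [Fin.succAbove_of_castSucc_lt _ _ (by rw [Fin.lt_def]; simp)] at h1
      exact lt_irrefl _ ((ha (Fin.succ_pos t)).trans h1)
  simp only [hterm, smul_eq_mul, mul_sub, Finset.sum_sub_distrib]
  -- the cycle condition at the tail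
  have hcyc := AlternatingMap.congr_fun hc (ev (Fin.removeNth 0 a))
  rw [bd_apply_ev, AlternatingMap.zero_apply] at hcyc
  have hcons : Matrix.vecCons (a 0) (Fin.removeNth 0 a) = a := by
    funext i
    refine Fin.cases ?_ (fun j => ?_) i <;> simp [Fin.removeNth, Fin.tail]
  have hcyc' := congrArg (psi (a 0)) hcyc
  rw [map_sum, map_zero] at hcyc'
  have hsecond : ∑ v, xs v * (if a 0 < v then psi (a 0) (c (ev (Matrix.vecCons v (Fin.removeNth 0 a)))) else 0) =
      - keep (a 0) (c (ev a)) := by
    rw [eq_neg_iff_add_eq_zero, add_comm]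
    refine Eq.trans ?_ hcyc'
    rw [show keep (a 0) (c (ev a)) = ∑ v, (if v = a 0 then keep (a 0) (c (ev a)) else 0) by simp,
      ← Finset.sum_add_distrib]
    refine Finset.sum_congr rfl fun v _ => ?_
    simp only [smul_eq_mul, xs]
    rcases lt_trichotomy v (a 0) with h | h | h
    · rw [if_neg h.ne, if_neg h.not_gt, mul_zero, add_zero, psi_X_mul_of_lt _ _ h]
    · subst h
      rw [if_pos rfl, if_neg (lt_irrefl _), mul_zero, add_zero, psi_X_mul_self, hcons]
    · rw [if_neg h.ne', if_pos h, zero_add, psi_X_mul_of_gt _ _ h]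
  rw [hsecond, sub_neg_eq_add]
  conv_rhs => rw [← sum_psi (a 0 : ℕ) (le_of_lt (a 0).2) (c (ev a))]
  congr 1
  refine Finset.sum_congr rfl fun v _ => ?_
  simp only [Fin.lt_def, mul_ite, mul_zero, xs]

/-- Exactness for free modules. -/
theorem exists_bd_eq {q N : ℕ} (c : Kos P n (q + 1) (Fin N → P)) (hc : bd xs c = 0)
    (e : Fin N → ℤ) (d : ℤ) (hd : ∀ a l, c (ev a) l ∈ GrSyz.stdGr k (Fin n) (d - e l)) :
    ∃ u : Kos P n (q + 2) (Fin N → P), bd xs u = c ∧
      ∀ a l, u (ev a) l ∈ GrSyz.stdGr k (Fin n) (d - 1 - e l) := by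
  have : ∀ l, ∃ u : Kos P n (q + 2) P, bd xs u = (LinearMap.proj l).compAlternatingMap c ∧
      ∀ a, u (ev a) ∈ GrSyz.stdGr k (Fin n) (d - 1 - e l) := by
    intro l
    obtain ⟨u, hu, hu'⟩ := exists_bd_eq_scalar ((LinearMap.proj l).compAlternatingMap c)
      (by rw [bd_comp, hc]; exact AlternatingMap.ext fun _ => rfl)
    refine ⟨u, hu, fun a => ?_⟩
    have := hu' (d - e l) (fun a => hd a l) a
    rwa [show d - e l - 1 = d - 1 - e l by ring] at this
  choose u hu hu' using this
  refine ⟨AlternatingMap.pi u, AlternatingMap.ext fun y => funext fun l => ?_, fun a l => hu' l a⟩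
  exact AlternatingMap.congr_fun (hu l) y

end Groth.Agent.GrLib8.LinSyz
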