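import Groth.Agent.GrLib8.LinSyz.TSpace

/-!
Betti numbers of a minimal resolution vanish when the iterated linear syzygy modules are generated
in low degrees.
-/

namespace Groth.Agent.GrLib8.LinSyz

open MvPolynomial Function DirectSum

universe u

variable {k : Type u} [CommRing k] {n : ℕ}
variable {R : Type u} [AddCommGroup R] [Module k R] [Module (MvPolynomial (Fin n) k) R]
variable {ℳ : ℤ → Submodule k R} [Decomposition ℳ] [SetLike.GradedSMul (GrSyz.stdGr k (Fin n)) ℳ]
variable (F : GrSyz.FreeRes (GrSyz.stdGr k (Fin n)) ℳ)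

local notation "P" => MvPolynomial (Fin n) k

/-- Components of degree `d` in the `l`-th term. -/
def InDeg {l q : ℕ} (d : ℤ) (Z : Kos P n q (Fin (F.rk l) → P)) : Prop :=
  ∀ a b, Z (ev a) b ∈ GrSyz.stdGr k (Fin n) (d - F.deg l b)

/-- Not a boundary in the double complex. -/
def Anti {l q : ℕ} (Z : Kos P n q (Fin (F.rk l) → P)) : Prop :=
  ∀ (u : Kos P n (q + 1) (Fin (F.rk l) → P)) (w : Kos P n q (Fin (F.rk (l + 1)) → P)),
    Z ≠ bd xs u + (F.dLin l).compAlternatingMap w

omit [Module k R] [Decomposition ℳ] [SetLike.GradedSMul (GrSyz.stdGr k (Fin n)) ℳ] in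
lemma constantCoeff_irrel {f : P} (hf : f ∈ (GrSyz.irrel (GrSyz.stdGr k (Fin n))).toIdeal) :
    constantCoeff f = 0 := by
  have : (GrSyz.irrel (GrSyz.stdGr k (Fin n))).toIdeal ≤
      RingHom.ker (constantCoeff (σ := Fin n) (R := k)) := by
    refine Ideal.span_le.2 ?_
    rintro g ⟨m, hm, hg⟩
    rw [SetLike.mem_coe, RingHom.mem_ker, constantCoeff_eq]
    by_contra h
    have := stdGr_mem_iff.1 hg 0 h
    simp at this
    omega
  exact this hf

lemma dLin_mem {l : ℕ} {d : ℤ} {v : Fin (F.rk (l + 1)) → P}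
    (hv : ∀ b, v b ∈ GrSyz.stdGr k (Fin n) (d - F.deg (l + 1) b)) (a : Fin (F.rk l)) :
    F.dLin l v a ∈ GrSyz.stdGr k (Fin n) (d - F.deg l a) := by
  show dotProduct (fun b => F.d l a b) v ∈ _
  refine Submodule.sum_mem _ fun b _ => ?_
  have := SetLike.mul_mem_graded (F.d_mem l a b) (hv b)
  rwa [show F.deg (l + 1) b - F.deg l a + (d - F.deg (l + 1) b) = d - F.deg l a by ring] at this

lemma dLin_dLin {l : ℕ} (v : Fin (F.rk (l + 2)) → P) : F.dLin l (F.dLin (l + 1) v) = 0 :=
  LinearMap.mem_ker.1 ((F.exact_succ l).ge (LinearMap.mem_range_self _ v))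

variable (hF : F.IsMinimal (GrSyz.irrel (GrSyz.stdGr k (Fin n))).toIdeal)
variable {p : ℕ} {j : ℤ}
include hF

theorem exists_step {l : ℕ} (q : ℕ) (Z : Kos P n q (Fin (F.rk (l + 1)) → P))
    (hZc : ∀ q', ∀ e : q = q' + 1, ∃ Zp : Kos P n q' (Fin (F.rk (l + 1 + 1)) → P),
      bd xs (e ▸ Z) = (F.dLin (l + 1)).compAlternatingMap Zp)
    (hcd : ∀ a b, (F.dLin l).compAlternatingMap Z (ev a) b ∈ GrSyz.stdGr k (Fin n) (j - q - F.deg l b)) :
    ∃ Z' : Kos P n (q + 1) (Fin (F.rk l) → P),
      InDeg F (j - q - 1) Z' ∧ bd xs Z' = (F.dLin l).compAlternatingMap Z := by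
  classical
  match q with
  | 0 =>
    let c := (F.dLin l).compAlternatingMap Z
    let h : Fin n → Kos P n 0 (Fin (F.rk l) → P) := fun v =>
      AlternatingMap.constOfIsEmpty P (Fin n → P) (Fin 0) fun b => psi v (c (ev Fin.elim0) b)
    refine ⟨AlternatingMap.alternatizeUncurryFin (combine h), fun a b => ?_, ?_⟩
    · rw [AlternatingMap.alternatizeUncurryFin_apply, Fin.sum_univ_one, Fin.val_zero, pow_zero,
        one_smul, show (ev a : Fin 1 → Fin n → P) 0 = Pi.single (a 0) 1 from rfl, combine_single]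
      have := psi_mem (k := k) (a 0) (hcd Fin.elim0 b)
      rw [show j - ((0 : ℕ) : ℤ) - F.deg l b - 1 = j - ((0 : ℕ) : ℤ) - 1 - F.deg l b by ring] at this
      exact this
    · rw [bd_uncurry xs h fun q' e => absurd e (Nat.succ_ne_zero q').symm]
      refine ext_sorted fun a _ => funext fun b => ?_
      have ha : a = Fin.elim0 := funext fun i => i.elim0
      subst ha
      have hc0 : constantCoeff (c (ev Fin.elim0) b) = 0 := by
        show constantCoeff (dotProduct (fun b' => F.d l b b') _) = 0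
        rw [dotProduct, map_sum]
        exact Finset.sum_eq_zero fun b' _ => by
          rw [map_mul, constantCoeff_irrel (hF l b b'), zero_mul]
      simp only [sum_apply, AlternatingMap.smul_apply, Finset.sum_apply, Pi.smul_apply, h,
        AlternatingMap.constOfIsEmpty_apply, Function.const_apply, smul_eq_mul, xs]
      rw [sum_X_psi, hc0, map_zero, sub_zero]
  | q + 1 =>
    obtain ⟨Zp, hZp⟩ := hZc q rfl
    have hbc : bd xs ((F.dLin l).compAlternatingMap Z) = 0 := by
      rw [bd_comp, show bd xs Z = _ from hZp]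
      exact AlternatingMap.ext fun y => dLin_dLin F _
    obtain ⟨u, hu, hud⟩ := exists_bd_eq ((F.dLin l).compAlternatingMap Z) hbc (F.deg l)
      (j - (q + 1 : ℕ)) hcd
    exact ⟨u, hud, hu⟩

theorem exists_chain [Nontrivial k] (b₀ : Fin (F.rk p)) (hb₀ : F.deg p b₀ = j) :
    ∀ (q l : ℕ), l + q = p → ∃ Z : Kos P n q (Fin (F.rk l) → P), InDeg F (j - q) Z ∧ Anti F Z ∧
      ∀ q', ∀ e : q = q' + 1, ∃ Zp : Kos P n q' (Fin (F.rk (l + 1)) → P),
        bd xs (e ▸ Z) = (F.dLin l).compAlternatingMap Zp := by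
  classical
  intro q
  induction q with
  | zero =>
    intro l hl
    rw [add_zero] at hl
    subst hl
    refine ⟨AlternatingMap.constOfIsEmpty P (Fin n → P) (Fin 0) (Pi.single b₀ 1), fun a b => ?_,
      fun u w h => ?_, fun q' e => absurd e (Nat.succ_ne_zero q').symm⟩
    · rw [AlternatingMap.constOfIsEmpty_apply, Function.const_apply, Nat.cast_zero, sub_zero,
        Pi.single_apply]
      split_ifs with hb
      · subst hb
        rw [hb₀, sub_self, stdGr_mem_iff]
        intro c hc
        rw [coeff_one] at hc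
        split_ifs at hc with h0
        · subst h0; simp
        · exact absurd rfl hc
      · exact Submodule.zero_mem _
    · have h1 := congrArg (fun Z : Kos P n 0 (Fin (F.rk l) → P) =>
        constantCoeff (Z (ev Fin.elim0) b₀)) h
      simp only [AlternatingMap.constOfIsEmpty_apply, Function.const_apply, Pi.single_eq_same, map_one,
        AlternatingMap.add_apply, Pi.add_apply, map_add, LinearMap.compAlternatingMap_apply] at h1
      have h2 : constantCoeff (bd xs u (ev Fin.elim0) b₀) = 0 := by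
        simp [bd_apply_ev, Finset.sum_apply, xs]
      have h3 : constantCoeff (F.dLin l (w (ev Fin.elim0)) b₀) = 0 := by
        show constantCoeff (dotProduct (fun b => F.d l b₀ b) _) = 0
        rw [dotProduct, map_sum]
        exact Finset.sum_eq_zero fun b _ => by
          rw [map_mul, constantCoeff_irrel (hF l b₀ b), zero_mul]
      rw [h2, h3, add_zero] at h1
      exact one_ne_zero h1
  | succ q ih =>
    intro l hl
    obtain ⟨Z, hZd, hZa, hZc⟩ := ih (l + 1) (by omega)
    let c : Kos P n q (Fin (F.rk l) → P) := (F.dLin l).compAlternatingMap Z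
    have hcd : ∀ a b, c (ev a) b ∈ GrSyz.stdGr k (Fin n) (j - q - F.deg l b) :=
      fun a b => dLin_mem F (hZd a) b
    have key := exists_step F hF q Z hZc hcd
    obtain ⟨Z', hZ'd, hZ'⟩ := key
    refine ⟨Z', ?_, fun u w h => ?_, fun q' e => ?_⟩
    · rwa [show j - ((q + 1 : ℕ) : ℤ) = j - q - 1 by push_cast; ring]
    · have h1 : c = (F.dLin l).compAlternatingMap (bd xs w) := by
        show (F.dLin l).compAlternatingMap Z = _
        rw [← hZ', h, ← bd_comp]
        refine AlternatingMap.ext fun y => ?_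
        show bd xs u (Matrix.vecCons xs y) + _ = _
        rw [show bd xs u (Matrix.vecCons xs y) = bd xs (bd xs u) y from rfl, bd_bd,
          AlternatingMap.zero_apply, zero_add]
        rfl
      obtain ⟨w', hw'⟩ := exists_lift (F.dLin (l + 1)) (Z - bd xs w) fun a => by
        rw [← F.exact_succ l, LinearMap.mem_ker, AlternatingMap.sub_apply, map_sub, sub_eq_zero]
        exact AlternatingMap.congr_fun h1 (ev a)
      exact hZa w w' (by rw [hw', add_sub_cancel])
    · obtain rfl : q = q' := by omega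
      exact ⟨Z, hZ'⟩

theorem betti_eq_zero [Nontrivial k] (hgen : ∀ i ≤ p, GenBelow (n := n) ℳ i (j - p)) :
    F.betti p j = 0 := by
  classical
  by_contra hne
  obtain ⟨b₀, hb₀⟩ : ∃ b : Fin (F.rk p), F.deg p b = j := by
    by_contra h
    push Not at h
    exact hne (by simp [GrSyz.FreeRes.betti, h])
  obtain ⟨Z, hZd, hZa, hZc⟩ := exists_chain F hF b₀ hb₀ p 0 (zero_add p)
  let ι : R →ₗ[P] ((Fin 0 → Fin n) → R) := LinearMap.pi fun _ => LinearMap.id
  let c : Kos P n p ((Fin 0 → Fin n) → R) := (ι ∘ₗ F.augLin).compAlternatingMap Z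
  have hc : InTP (k := k) ℳ (j - p) c := by
    intro a
    refine ⟨mem_TT.2 fun s => s.elim0, fun t => ?_⟩
    show F.augLin (Z (ev a)) ∈ ℳ (j - p)
    rw [Fintype.linearCombination_apply]
    refine Submodule.sum_mem _ fun b _ => ?_
    have := SetLike.GradedSMul.smul_mem (B := ℳ) (hZd a b) (F.aug_mem b)
    rwa [show (j - (p : ℤ) - F.deg 0 b) +ᵥ F.deg 0 b = j - p by rw [vadd_eq_add]; ring] at this
  obtain ⟨u, -, hu⟩ := exists_bd_of_genBelow ℳ hgen p 0 (zero_add p) c hc (by
    intro q' e
    subst e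
    obtain ⟨Zp, hZp⟩ := hZc q' rfl
    show bd xs c = 0
    rw [bd_comp, show bd xs Z = _ from hZp]
    refine AlternatingMap.ext fun y => funext fun t => ?_
    exact LinearMap.mem_ker.1 (F.exact_zero.ge (LinearMap.mem_range_self _ (Zp y))))
  obtain ⟨ũ, hũ⟩ := exists_lift F.augLin
    ((LinearMap.proj Fin.elim0).compAlternatingMap u) fun a => by
      rw [LinearMap.range_eq_top.2 F.aug_surjective]; trivial
  obtain ⟨w, hw⟩ := exists_lift (F.dLin 0) (Z - bd xs ũ) fun a => by
    rw [← F.exact_zero, LinearMap.mem_ker, AlternatingMap.sub_apply, map_sub, sub_eq_zero]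
    have h1 : F.augLin (bd xs ũ (ev a)) = bd xs u (ev a) Fin.elim0 :=
      AlternatingMap.congr_fun hũ (Matrix.vecCons xs (ev a))
    rw [h1, hu]
    rfl
  exact hZa ũ w (by rw [hw, add_sub_cancel])

end Groth.Agent.GrLib8.LinSyz
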