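import Groth.Agent.GrLib8.LinSyz.Poly
import Groth.Agent.GrLib8.Basic

/-!
Iterated linear syzygy modules and vanishing of Koszul homology.
-/

namespace Groth.Agent.GrLib8.LinSyz

open MvPolynomial Function DirectSum

universe u

variable {k : Type u} [CommRing k] {n : ℕ}
variable {R : Type u} [AddCommGroup R] [Module k R] [Module (MvPolynomial (Fin n) k) R]

local notation "P" => MvPolynomial (Fin n) k

variable (k n R) in
/-- Functions on words of length `i` killed by contraction in every slot. -/
noncomputable def TT (i : ℕ) : Submodule P ((Fin i → Fin n) → R) :=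
  ⨅ (s : Fin i) (c : Fin i → Fin n),
    LinearMap.ker (∑ v : Fin n, (X v : P) •
      (LinearMap.proj (update c s v) : ((Fin i → Fin n) → R) →ₗ[P] R))

lemma mem_TT {i : ℕ} {m : (Fin i → Fin n) → R} :
    m ∈ TT k n R i ↔ ∀ (s : Fin i) (c : Fin i → Fin n),
      ∑ v : Fin n, (X v : P) • m (update c s v) = 0 := by
  simp [TT, Submodule.mem_iInf]

variable (ℳ : ℤ → Submodule k R)

/-- Functions with values in the piece of degree `d`. -/
def PP (i : ℕ) (d : ℤ) : AddSubgroup ((Fin i → Fin n) → R) where
  carrier := {m | ∀ c, m c ∈ ℳ d}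
  add_mem' ha hb c := add_mem (ha c) (hb c)
  zero_mem' _ := zero_mem _
  neg_mem' ha c := neg_mem (ha c)

lemma mem_PP {i : ℕ} {d : ℤ} {m : (Fin i → Fin n) → R} :
    m ∈ PP (n := n) ℳ i d ↔ ∀ c, m c ∈ ℳ d := Iff.rfl

variable [Decomposition ℳ] [SetLike.GradedSMul (GrSyz.stdGr k (Fin n)) ℳ]

/-- The generation hypothesis. -/
def GenBelow (i : ℕ) (E : ℤ) : Prop :=
  ∀ m ∈ TT k n R i, m ∈ Submodule.span P {m' : (Fin i → Fin n) → R |
    m' ∈ TT k n R i ∧ ∃ e : ℤ, e < E ∧ m' ∈ PP (n := n) ℳ i e}

/-- A homogeneous element above the generating degrees is a combination of the variables. -/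
theorem exists_split {i : ℕ} {d : ℤ} (hgen : GenBelow (n := n) ℳ i d) {m : (Fin i → Fin n) → R}
    (hT : m ∈ TT k n R i) (hd : m ∈ PP (n := n) ℳ i d) :
    ∃ h : Fin n → (Fin i → Fin n) → R,
      (∀ v, h v ∈ TT k n R i ∧ h v ∈ PP (n := n) ℳ i (d - 1)) ∧ m = ∑ v, (X v : P) • h v := by
  classical
  obtain ⟨a, ha, hm⟩ := Submodule.mem_span_set.1 (hgen m hT)
  have hg : ∀ g ∈ a.support, ∃ e : ℤ, e < d ∧ g ∈ TT k n R i ∧ g ∈ PP (n := n) ℳ i e := fun g hg => by
    obtain ⟨h1, e, he, h2⟩ := ha hg
    exact ⟨e, he, h1, h2⟩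
  choose! e he hgT hgP using hg
  let A : ((Fin i → Fin n) → R) → P := fun g =>
    (decompose (GrSyz.stdGr k (Fin n)) (a g) (d - e g) : P)
  refine ⟨fun v => ∑ g ∈ a.support, psi v (A g) • g, fun v => ⟨?_, ?_⟩, ?_⟩
  · exact Submodule.sum_mem _ fun g hg => Submodule.smul_mem _ _ (hgT g hg)
  · refine AddSubgroup.sum_mem _ fun g hg c => ?_
    have h1 : psi v (A g) ∈ GrSyz.stdGr k (Fin n) (d - e g - 1) := psi_mem v (SetLike.coe_mem _)
    have := SetLike.GradedSMul.smul_mem (B := ℳ) h1 (hgP g hg c)
    rw [show (d - e g - 1) +ᵥ e g = d - 1 by rw [vadd_eq_add]; ring] at this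
    exact this
  · funext c
    conv_lhs => rw [← DirectSum.decompose_of_mem_same ℳ (hd c), ← hm]
    rw [Finsupp.sum, Finset.sum_apply, DirectSum.decompose_sum, DFinsupp.finsetSum_apply,
      AddSubmonoidClass.coe_finsetSum]
    simp only [Finset.sum_apply, Pi.smul_apply, Finset.smul_sum, smul_smul]
    rw [Finset.sum_comm]
    refine Finset.sum_congr rfl fun g hg => ?_
    rw [GrLib8.decompose_smul_of_mem (GrSyz.stdGr k (Fin n)) ℳ (hgP g hg c), ← Finset.sum_smul,
      sum_X_psi]
    have h0 : constantCoeff (A g) = 0 := by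
      have hA : A g ∈ GrSyz.stdGr k (Fin n) (d - e g) := SetLike.coe_mem _
      rw [stdGr_mem_iff] at hA
      by_contra h
      have := hA 0 (by rwa [← constantCoeff_eq])
      simp at this
      have := he g hg
      omega
    rw [h0, map_zero, sub_zero]

/-- Prepend a letter. -/
noncomputable def pushW (i : ℕ) (v : Fin n) :
    ((Fin i → Fin n) → R) →ₗ[P] ((Fin (i + 1) → Fin n) → R) where
  toFun m w := if w 0 = v then m (Fin.tail w) else 0
  map_add' m m' := by funext w; simp only [Pi.add_apply]; split_ifs <;> simp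
  map_smul' r m := by funext w; simp only [Pi.smul_apply, RingHom.id_apply]; split_ifs <;> simp

/-- Fix the first letter. -/
noncomputable def restW (i : ℕ) (v : Fin n) :
    ((Fin (i + 1) → Fin n) → R) →ₗ[P] ((Fin i → Fin n) → R) :=
  LinearMap.funLeft P R (fun t => Fin.cons v t)

variable {p : ℕ} {j : ℤ}

/-- Values in `T^i` of internal degree `d`. -/
def InTP {i q : ℕ} (d : ℤ) (c : Kos P n q ((Fin i → Fin n) → R)) : Prop :=
  ∀ a, c (ev a) ∈ TT k n R i ∧ c (ev a) ∈ PP (n := n) ℳ i d

omit [Decomposition ℳ] [SetLike.GradedSMul (GrSyz.stdGr k (Fin n)) ℳ] in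
lemma bd_zero_const {i : ℕ} (h : Fin n → Kos P n 0 ((Fin i → Fin n) → R)) :
    bd (xs (k := k)) (AlternatingMap.alternatizeUncurryFin (combine h)) = ∑ v, (xs v : P) • h v :=
  bd_uncurry _ h fun q' e => absurd e (Nat.succ_ne_zero q').symm

/-- Splitting all values. -/
theorem exists_split_kos {i q : ℕ} {d : ℤ} (hgen : GenBelow (n := n) ℳ i d)
    (c : Kos P n q ((Fin i → Fin n) → R)) (hc : InTP ℳ d c) :
    ∃ h : Fin n → Kos P n q ((Fin i → Fin n) → R),
      (∀ v, InTP ℳ (d - 1) (h v)) ∧ c = ∑ v, (xs v : P) • h v := by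
  choose f hf hsum using fun a => exists_split ℳ hgen (hc a).1 (hc a).2
  choose h hh using fun v => exists_of_sorted (S := P) q (fun a => f a v)
  refine ⟨h, fun v a => ⟨?_, ?_⟩, ext_sorted fun a ha => ?_⟩
  · exact mem_of_sorted (h v) (TT k n R i).toAddSubgroup (fun b hb => by rw [hh v b hb]; exact (hf b v).1) a
  · exact mem_of_sorted (h v) _ (fun b hb => by rw [hh v b hb]; exact (hf b v).2) a
  · rw [hsum a]
    simp only [sum_apply, AlternatingMap.smul_apply, hh _ a ha, xs]

/-- Homogeneous cycles in the right degree are boundaries of chains with values in `T^i`. -/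
theorem exists_bd_of_genBelow (hgen : ∀ i ≤ p, GenBelow (n := n) ℳ i (j - p)) :
    ∀ (q i : ℕ), i + q = p → ∀ c : Kos P n q ((Fin i → Fin n) → R), InTP ℳ (j - p) c →
      (∀ q', ∀ e : q = q' + 1, bd xs (e ▸ c) = 0) →
      ∃ u : Kos P n (q + 1) ((Fin i → Fin n) → R),
        (∀ y, u y ∈ TT k n R i) ∧ bd xs u = c := by
  intro q
  induction q with
  | zero =>
    intro i hi c hc _
    obtain ⟨h, hh, hsum⟩ := exists_split_kos ℳ (hgen i (by omega)) c hc
    refine ⟨AlternatingMap.alternatizeUncurryFin (combine h), fun y => ?_, by rw [bd_zero_const, hsum]⟩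
    refine mem_submodule_of_sorted _ _ (fun a _ => ?_) y
    rw [AlternatingMap.alternatizeUncurryFin_apply]
    refine Submodule.sum_mem _ fun t _ => zsmul_mem ?_ _
    rw [show (ev a : Fin 1 → Fin n → P) t = Pi.single (a t) 1 from rfl, combine_single,
      show Fin.removeNth t (ev a : Fin 1 → Fin n → P) = ev (Fin.removeNth t a) from rfl]
    exact (hh _ _).1
  | succ q ih =>
    intro i hi c hc hcyc
    obtain ⟨h, hh, hsum⟩ := exists_split_kos ℳ (hgen i (by omega)) c hc
    have hbdc : bd xs c = 0 := hcyc q rfl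
    have hT : ∀ v y, h v y ∈ TT k n R i := fun v y =>
      mem_submodule_of_sorted _ _ (fun a _ => (hh v a).1) y
    let c' : Kos P n q ((Fin (i + 1) → Fin n) → R) :=
      ∑ v, (pushW i v).compAlternatingMap (bd xs (h v))
    have hc'val : ∀ y (w : Fin (i + 1) → Fin n), c' y w = bd xs (h (w 0)) y (Fin.tail w) := by
      intro y w
      simp only [c', sum_apply, Finset.sum_apply, LinearMap.compAlternatingMap_apply,
        pushW, LinearMap.coe_mk, AddHom.coe_mk]
      rw [Finset.sum_eq_single (w 0) (fun v _ hv => if_neg (Ne.symm hv))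
        (fun hv => absurd (Finset.mem_univ _) hv), if_pos rfl]
    have hsum0 : ∀ y, ∑ v, (X v : P) • bd xs (h v) y = 0 := by
      intro y
      have := AlternatingMap.congr_fun hbdc y
      rw [AlternatingMap.zero_apply, hsum, bd_apply, sum_apply] at this
      exact this
    have hc' : InTP ℳ (j - p) c' := by
      intro a
      refine ⟨mem_TT.2 fun s w => ?_, fun w => ?_⟩
      · refine Fin.cases ?_ (fun s => ?_) s
        · simp only [hc'val, update_self, Fin.tail_update_zero]
          simpa [Finset.sum_apply] using congrFun (hsum0 (ev a)) (Fin.tail w)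
        · simp only [hc'val, update_of_ne (Fin.succ_ne_zero s).symm, Fin.tail_update_succ]
          have : bd xs (h (w 0)) (ev a) ∈ TT k n R i := hT _ _
          exact mem_TT.1 this s (Fin.tail w)
      · rw [hc'val, bd_apply_ev]
        simp only [Finset.sum_apply, Pi.smul_apply]
        refine Submodule.sum_mem _ fun v _ => ?_
        have := SetLike.GradedSMul.smul_mem (B := ℳ) (X_mem (k := k) v)
          ((hh (w 0) (Matrix.vecCons v a)).2 (Fin.tail w))
        rwa [show (1 : ℤ) +ᵥ (j - p - 1) = j - p by simp [vadd_eq_add]] at this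
    obtain ⟨g, hg, hgbd⟩ := ih (i + 1) (by omega) c' hc' (by
      intro q' e
      subst e
      refine AlternatingMap.ext fun y => funext fun w => ?_
      show c' (Matrix.vecCons xs y) w = 0
      rw [hc'val]
      exact congrFun (AlternatingMap.congr_fun (bd_bd xs (h (w 0))) y) (Fin.tail w))
    let g' : Fin n → Kos P n (q + 1) ((Fin i → Fin n) → R) := fun v =>
      h v - (restW i v).compAlternatingMap g
    have hrest : ∀ v y, restW (k := k) i v (g y) ∈ TT k n R i := by
      intro v y
      refine mem_TT.2 fun s w => ?_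
      have := mem_TT.1 (hg y) s.succ (Fin.cons v w)
      simpa [restW, Fin.cons_update] using this
    have hcyc' : ∀ v, bd xs (g' v) = 0 := by
      intro v
      rw [bd_sub, bd_comp, hgbd, sub_eq_zero]
      refine AlternatingMap.ext fun y => funext fun t => ?_
      show bd xs (h v) y t = c' y (Fin.cons v t)
      rw [hc'val, Fin.cons_zero, Fin.tail_cons]
    have hsum' : ∑ v, (xs v : P) • g' v = c := by
      rw [hsum]
      simp only [g', smul_sub, Finset.sum_sub_distrib]
      rw [sub_eq_self]
      refine AlternatingMap.ext fun y => funext fun t => ?_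
      simp only [sum_apply, AlternatingMap.smul_apply, Finset.sum_apply, Pi.smul_apply,
        LinearMap.compAlternatingMap_apply, AlternatingMap.zero_apply, Pi.zero_apply]
      rcases Nat.eq_zero_or_pos n with hn | hn
      · subst hn
        simp
      · have := mem_TT.1 (hg y) 0 (Fin.cons ⟨0, hn⟩ t)
        simpa [restW, xs, Fin.update_cons_zero] using this
    refine ⟨AlternatingMap.alternatizeUncurryFin (combine g'), fun y => ?_, ?_⟩
    · rw [AlternatingMap.alternatizeUncurryFin_apply]
      refine Submodule.sum_mem _ fun t _ => zsmul_mem ?_ _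
      rw [combine, Fintype.linearCombination_apply]
      simp only [sum_apply, AlternatingMap.smul_apply, g', AlternatingMap.sub_apply]
      exact Submodule.sum_mem _ fun v _ => Submodule.smul_mem _ _
        (Submodule.sub_mem _ (hT v _) (hrest v _))
    · rw [bd_uncurry xs g' (fun q' e v => ?_), hsum']
      obtain rfl : q = q' := by omega
      exact hcyc' v

end Groth.Agent.GrLib8.LinSyz
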